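import Mathlib

/-!
# Making finitely many finite projective modules free by inverting one element
-/

set_option autoImplicit false
universe u
open TensorProduct

namespace Groth.Agent.Lib.Helper2.StabIso

variable {R : Type u} [CommRing R]

lemma free_away_mul_right (X : Type u) [AddCommGroup X] [Module R X] (r s : R)
    (h : Module.Free (Localization.Away r) (Localization.Away r ⊗[R] X)) :
    Module.Free (Localization.Away (r * s)) (Localization.Away (r * s) ⊗[R] X) := by
  let A := Localization.Away r
  let B := Localization.Away (r * s)
  have hu : IsUnit (algebraMap R B r) := by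
    have h1 : IsUnit (algebraMap R B (r * s)) := IsLocalization.Away.algebraMap_isUnit (r * s)
    rw [map_mul] at h1
    exact isUnit_of_mul_isUnit_left h1
  let φ : A →+* B := IsLocalization.Away.lift r hu
  letI : Algebra A B := φ.toAlgebra
  haveI : IsScalarTower R A B := IsScalarTower.of_algebraMap_eq (fun x => by
    change algebraMap R B x = φ (algebraMap R A x)
    exact (IsLocalization.Away.lift_eq r hu x).symm)
  exact Module.Free.of_equiv (AlgebraTensorModule.cancelBaseChange R A B B X)

lemma free_away_mul_left (X : Type u) [AddCommGroup X] [Module R X] (r s : R)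
    (h : Module.Free (Localization.Away r) (Localization.Away r ⊗[R] X)) :
    Module.Free (Localization.Away (s * r)) (Localization.Away (s * r) ⊗[R] X) := by
  rw [mul_comm]
  exact free_away_mul_right X r s h

lemma exists_away_free (p : Ideal R) [p.IsPrime] (X : Type u) [AddCommGroup X] [Module R X]
    [Module.Finite R X] [Module.Projective R X] :
    ∃ f : R, f ∉ p ∧ Module.Free (Localization.Away f) (Localization.Away f ⊗[R] X) := by
  have : Module.FinitePresentation R X := Module.finitePresentation_of_projective R X
  have : Module.Free (Localization.AtPrime p) (LocalizedModule p.primeCompl X) :=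
    Module.free_of_flat_of_isLocalRing
  obtain ⟨r, hr, hr', _⟩ := Module.FinitePresentation.exists_free_localizedModule_powers
    p.primeCompl (LocalizedModule.mkLinearMap p.primeCompl X) (Localization.AtPrime p)
  exact ⟨r, hr, Module.Free.of_equiv (LocalizedModule.equivTensorProduct (.powers r) X)⟩

theorem exists_away_free_list (p : Ideal R) [p.IsPrime] (L : List (ModuleCat.{u} R))
    (hL : ∀ X ∈ L, Module.Finite R X ∧ Module.Projective R X) :
    ∃ f : R, f ∉ p ∧
      ∀ X ∈ L, Module.Free (Localization.Away f) (Localization.Away f ⊗[R] X) := by
  induction L with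
  | nil => exact ⟨1, fun h => ‹p.IsPrime›.ne_top ((Ideal.eq_top_iff_one p).2 h), by simp⟩
  | cons Y L ih =>
    obtain ⟨f, hf, hfL⟩ := ih (fun X hX => hL X (List.mem_cons_of_mem _ hX))
    have hY := hL Y List.mem_cons_self
    have := hY.1
    have := hY.2
    obtain ⟨g, hg, hgY⟩ := exists_away_free p Y
    refine ⟨g * f, fun h => ?_, fun X hX => ?_⟩
    · rcases ‹p.IsPrime›.mem_or_mem h with h | h
      · exact hg h
      · exact hf h
    · rcases List.mem_cons.1 hX with rfl | hX
      · exact free_away_mul_right X g f hgY
      · exact free_away_mul_left X f g (hfL X hX)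

end Groth.Agent.Lib.Helper2.StabIso
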