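import Groth.Agent.Lib.Helper2.StabIso.Split
import Groth.Agent.Lib.Helper2.StabIso.FreeLoc
import Groth.Agent.Lib.Helper13.DRingLocalSplit
import Groth.Agent.Lib.Helper13.DRingKProj

/-!
# Quasi-isomorphic bounded complexes of finite projectives are stably isomorphic locally
-/

set_option autoImplicit false
universe u
open CategoryTheory CategoryTheory.Limits TensorProduct

namespace Groth.Agent.Lib.Helper2.StabIso

open Groth.Agent.Lib.Helper13.DR Groth.Agent.Lib.Helper13.PC DerivedCategory CochainComplex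
attribute [local instance] HasDerivedCategory.standard

section Range

variable {A : Type u} [CommRing A] (B : Type u) [CommRing B] [Algebra A B]

/-- The range of a base-changed map, for flat base change. -/
lemma free_range_extendScalars [Module.Flat A B] {X Y : ModuleCat.{u} A} (g : X ⟶ Y)
    (h : Module.Free B (B ⊗[A] (LinearMap.range g.hom))) :
    Module.Free B (LinearMap.range
      ((ModuleCat.extendScalars.{u, u, u} (algebraMap A B)).map g).hom) := by
  let ι : LinearMap.range g.hom →ₗ[A] Y := (LinearMap.range g.hom).subtype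
  let ρ : X →ₗ[A] LinearMap.range g.hom := g.hom.rangeRestrict
  have hρ : Function.Surjective ρ := g.hom.surjective_rangeRestrict
  have hg : g.hom = ι ∘ₗ ρ := rfl
  have hinj : Function.Injective (ι.baseChange B) := by
    rw [LinearMap.baseChange_eq_ltensor]
    exact Module.Flat.lTensor_preserves_injective_linearMap ι (Submodule.injective_subtype _)
  have hsurj : Function.Surjective (ρ.baseChange B) := by
    rw [LinearMap.baseChange_eq_ltensor]
    exact LinearMap.lTensor_surjective B hρ
  have hrange : LinearMap.range (g.hom.baseChange B) = LinearMap.range (ι.baseChange B) := by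
    have h0 : g.hom.baseChange B = (ι.baseChange B) ∘ₗ (ρ.baseChange B) := by
      rw [← LinearMap.baseChange_comp]
      rfl
    rw [h0, LinearMap.range_comp_of_range_eq_top]
    exact LinearMap.range_eq_top.2 hsurj
  let e1 : (B ⊗[A] (LinearMap.range g.hom)) ≃ₗ[B] LinearMap.range (ι.baseChange B) :=
    LinearEquiv.ofInjective (ι.baseChange B) hinj
  let EX := extendScalarsEquiv B X
  let EY := extendScalarsEquiv B Y
  let G := ((ModuleCat.extendScalars.{u, u, u} (algebraMap A B)).map g).hom
  have hmap : Submodule.map EY.toLinearMap (LinearMap.range G) =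
      LinearMap.range (g.hom.baseChange B) := by
    ext y
    simp only [Submodule.mem_map, LinearMap.mem_range]
    constructor
    · rintro ⟨_, ⟨z, rfl⟩, rfl⟩
      exact ⟨EX z, (extendScalarsEquiv_naturality B g z).symm⟩
    · rintro ⟨z, rfl⟩
      refine ⟨G (EX.symm z), ⟨_, rfl⟩, ?_⟩
      have := extendScalarsEquiv_naturality B g (EX.symm z)
      rw [LinearEquiv.apply_symm_apply] at this
      exact this
  let e2 : LinearMap.range G ≃ₗ[B] Submodule.map EY.toLinearMap (LinearMap.range G) :=
    EY.submoduleMap (LinearMap.range G)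
  have h3 : Module.Free B (LinearMap.range (ι.baseChange B)) := Module.Free.of_equiv e1
  rw [← hrange, ← hmap] at h3
  exact Module.Free.of_equiv e2.symm

end Range

section Contractible

variable {R : Type u} [CommRing R]

/-- In a contractible complex, `d = d ≫ s ≫ d`. -/
lemma d_comp_hom_comp_d (C : DRing.Cx R) (h : Homotopy (𝟙 C) 0) (i : ℤ) :
    C.d i (i + 1) ≫ h.hom (i + 1) i ≫ C.d i (i + 1) = C.d i (i + 1) := by
  have h1 := h.comm (i + 1)
  rw [dNext_eq h.hom (show (ComplexShape.up ℤ).Rel (i + 1) (i + 1 + 1) from rfl),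
    prevD_eq h.hom (show (ComplexShape.up ℤ).Rel i (i + 1) from rfl)] at h1
  have h2 := congrArg (fun φ => C.d i (i + 1) ≫ φ) h1
  simp only [HomologicalComplex.id_f, Category.comp_id, HomologicalComplex.zero_f, add_zero,
    Preadditive.comp_add, HomologicalComplex.d_comp_d_assoc, zero_comp, zero_add] at h2
  exact h2.symm

/-- Boundaries of a contractible complex of finite projectives are finite projective. -/
lemma Pfp_range_of_contractible (C : DRing.Cx R) (h : Homotopy (𝟙 C) 0)
    (hC : ∀ i, Pfp R (C.X i)) (i : ℤ) :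
    Pfp R (ModuleCat.of R (LinearMap.range (C.d i (i + 1)).hom)) := by
  let incl : ModuleCat.of R (LinearMap.range (C.d i (i + 1)).hom) ⟶ C.X (i + 1) :=
    ModuleCat.ofHom (LinearMap.range (C.d i (i + 1)).hom).subtype
  let r : C.X (i + 1) ⟶ ModuleCat.of R (LinearMap.range (C.d i (i + 1)).hom) :=
    ModuleCat.ofHom ((C.d i (i + 1)).hom.rangeRestrict ∘ₗ (h.hom (i + 1) i).hom)
  refine Pfp_of_retract incl r ?_ (hC (i + 1))
  ext ⟨y, x, rfl⟩
  have key := congrArg (fun φ => φ.hom x) (d_comp_hom_comp_d C h i)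
  exact key

end Contractible

section Extend

variable {R : Type u} [CommRing R]

/-- The list of modules to make free: terms and boundaries in a range of degrees. -/
noncomputable def modList (C : DRing.Cx R) (a : ℤ) (n : ℕ) : List (ModuleCat.{u} R) :=
  (List.range n).flatMap (fun k : ℕ =>
    [C.X (a + (k : ℤ)),
      ModuleCat.of R (LinearMap.range (C.d (a + (k : ℤ)) (a + (k : ℤ) + 1)).hom)])

lemma mem_modList_X (C : DRing.Cx R) (a : ℤ) (n : ℕ) (i : ℤ) (h1 : a ≤ i) (h2 : i < a + n) :
    C.X i ∈ modList C a n := by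
  obtain ⟨k, rfl⟩ : ∃ k : ℕ, i = a + k := ⟨(i - a).toNat, by omega⟩
  have hk : k < n := by omega
  unfold modList
  rw [List.mem_flatMap]
  exact ⟨k, List.mem_range.2 hk, by simp⟩

lemma mem_modList_range (C : DRing.Cx R) (a : ℤ) (n : ℕ) (i : ℤ) (h1 : a ≤ i) (h2 : i < a + n) :
    ModuleCat.of R (LinearMap.range (C.d i (i + 1)).hom) ∈ modList C a n := by
  obtain ⟨k, rfl⟩ : ∃ k : ℕ, i = a + k := ⟨(i - a).toNat, by omega⟩
  have hk : k < n := by omega
  unfold modList
  rw [List.mem_flatMap]
  exact ⟨k, List.mem_range.2 hk, by simp⟩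

lemma Pfp_of_mem_modList (C : DRing.Cx R) (h : Homotopy (𝟙 C) 0) (hC : ∀ i, Pfp R (C.X i))
    (a : ℤ) (n : ℕ) :
    ∀ X ∈ modList C a n, Module.Finite R X ∧ Module.Projective R X := by
  intro X hX
  obtain ⟨k, -, hk⟩ := List.mem_flatMap.1 hX
  simp only [List.mem_cons, List.not_mem_nil, or_false] at hk
  rcases hk with rfl | rfl
  · exact hC _
  · exact Pfp_range_of_contractible C h hC _

theorem trivial_extend (C : DRing.Cx R) (a : ℤ) (n : ℕ)
    (hv : ∀ i, i < a ∨ a + n ≤ i → IsZero (C.X i))
    (hC : ∀ i, Pfp R (C.X i)) (h : Homotopy (𝟙 C) 0) (f : R)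
    (hf : ∀ X ∈ modList C a n,
      Module.Free (Localization.Away f) (Localization.Away f ⊗[R] X)) :
    (∃ a' b' : ℤ, DRing.VanishesOutside ((extendCx R (Localization.Away f)).obj C) a' b') ∧
      DRing.TermwiseFiniteFree ((extendCx R (Localization.Away f)).obj C) ∧
      (∀ i : ℤ, Module.Free (Localization.Away f)
        (LinearMap.range (((extendCx R (Localization.Away f)).obj C).d i (i + 1)).hom)) ∧
      Nonempty (Homotopy (𝟙 ((extendCx R (Localization.Away f)).obj C)) 0) := by
  have hz : ∀ i, i < a ∨ a + n ≤ i →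
      Subsingleton (((extendCx R (Localization.Away f)).obj C).X i) := fun i hi =>
    ModuleCat.subsingleton_of_isZero
      (Functor.map_isZero (ModuleCat.extendScalars.{u, u, u} (algebraMap R (Localization.Away f)))
        (hv i hi))
  refine ⟨⟨a, a + n - 1, fun i hi => ?_⟩, fun i => ⟨?_, ?_⟩, fun i => ?_, ⟨?_⟩⟩
  · exact Functor.map_isZero
      (ModuleCat.extendScalars.{u, u, u} (algebraMap R (Localization.Away f))) (hv i (by omega))
  · exact (Pfp_extendScalars (Localization.Away f) (hC i)).1
  · by_cases hi : a ≤ i ∧ i < a + n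
    · have := hf _ (mem_modList_X C a n i hi.1 hi.2)
      exact Module.Free.of_equiv (extendScalarsEquiv (Localization.Away f) (C.X i)).symm
    · have := hz i (by omega)
      exact Module.Free.of_subsingleton _ _
  · by_cases hi : a ≤ i ∧ i < a + n
    · exact free_range_extendScalars (Localization.Away f) (C.d i (i + 1))
        (hf _ (mem_modList_range C a n i hi.1 hi.2))
    · have := hz i (by omega)
      have h0 : LinearMap.range (((extendCx R (Localization.Away f)).obj C).d i (i + 1)).hom = ⊥ :=
        LinearMap.range_eq_bot.2 (Subsingleton.elim _ _)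
      rw [h0]
      exact Module.Free.of_subsingleton _ _
  · exact ((Homotopy.ofEq (by simp)).trans
      ((ModuleCat.extendScalars.{u, u, u} (algebraMap R (Localization.Away f))).mapHomotopy h)).trans
        (Homotopy.ofEq (by simp))

end Extend

section Main

variable (R : Type u) [CommRing R]

theorem main (p : Ideal R) [p.IsPrime] (M N : DRing.Cx R) (a b : ℤ)
    (hM : DRing.VanishesOutside M a b) (hN : DRing.VanishesOutside N a b)
    (hMp : DRing.TermwiseFiniteProjective M) (hNp : DRing.TermwiseFiniteProjective N)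
    (h : Nonempty (DRing.toD M ≅ DRing.toD N)) :
    ∃ f : R, f ∉ p ∧ ∃ P Q : DRing.Cx (Localization.Away f),
      ((∃ a' b' : ℤ, DRing.VanishesOutside P a' b') ∧ DRing.TermwiseFiniteFree P ∧
          (∀ i : ℤ, Module.Free (Localization.Away f) (LinearMap.range (P.d i (i + 1)).hom)) ∧
          Nonempty (Homotopy (𝟙 P) 0)) ∧
      ((∃ a' b' : ℤ, DRing.VanishesOutside Q a' b') ∧ DRing.TermwiseFiniteFree Q ∧
          (∀ i : ℤ, Module.Free (Localization.Away f) (LinearMap.range (Q.d i (i + 1)).hom)) ∧
          Nonempty (Homotopy (𝟙 Q) 0)) ∧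
      Nonempty ((((ModuleCat.extendScalars (algebraMap R (Localization.Away f))).mapHomologicalComplex
          (ComplexShape.up ℤ)).obj M) ⊞ P ≅
        (((ModuleCat.extendScalars (algebraMap R (Localization.Away f))).mapHomologicalComplex
          (ComplexShape.up ℤ)).obj N) ⊞ Q) := by
  obtain ⟨e0⟩ := h
  have : M.IsKProjective := isKProjective_of_forall_projective M b
    (fun i hi => hM i (Or.inr hi)) (fun i => (projective_iff _).2 (hMp i).2)
  have : N.IsKProjective := isKProjective_of_forall_projective N b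
    (fun i hi => hN i (Or.inr hi)) (fun i => (projective_iff _).2 (hNp i).2)
  obtain ⟨e⟩ := nonempty_homotopyEquiv_of_iso e0
  obtain ⟨K, i, q, hiq, ⟨hK⟩, ⟨Φ⟩⟩ := exists_stable_iso e
  obtain ⟨hCM⟩ := nonempty_homotopy_id_mappingCone_id M
  have hCMp : ∀ j, Pfp R ((mappingCone (𝟙 M)).X j) := fun j =>
    (Pfp R).prop_of_iso ((HomologicalComplex.homotopyCofiber.XIsoBiprod (𝟙 M) j (j + 1) rfl) ≪≫
      biprod.isoProd _ _).symm (Pfp_prod _ _ (hMp (j + 1)) (hMp j))
  have hTp : ∀ j, Pfp R ((N ⊞ mappingCone (𝟙 M)).X j) := fun j =>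
    (Pfp R).prop_of_iso ((HomologicalComplex.biprodXIso N (mappingCone (𝟙 M)) j) ≪≫
      biprod.isoProd _ _).symm (Pfp_prod _ _ (hNp j) (hCMp j))
  have hretr : ∀ j, i.f j ≫ q.f j = 𝟙 (K.X j) := fun j => by
    rw [← HomologicalComplex.comp_f, hiq]; rfl
  have hKp : ∀ j, Pfp R (K.X j) := fun j => Pfp_of_retract (i.f j) (q.f j) (hretr j) (hTp j)
  obtain ⟨n, hn⟩ : ∃ n : ℕ, b - a + 2 ≤ n := ⟨(b - a + 2).toNat, Int.self_le_toNat _⟩
  have hCMv : ∀ j, j < a - 1 ∨ (a - 1) + n ≤ j → IsZero ((mappingCone (𝟙 M)).X j) := fun j hj => by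
    rw [mappingCone.isZero_X_iff]
    exact ⟨hM _ (by omega), hM _ (by omega)⟩
  have hKv : ∀ j, j < a - 1 ∨ (a - 1) + n ≤ j → IsZero (K.X j) := fun j hj => by
    refine isZero_of_retract (i.f j) (q.f j) (hretr j) ?_
    refine IsZero.of_iso ?_ (HomologicalComplex.biprodXIso N (mappingCone (𝟙 M)) j)
    rw [biprod_isZero_iff]
    exact ⟨hN _ (by omega), hCMv j hj⟩
  obtain ⟨f, hf, hfree⟩ := exists_away_free_list p
    (modList K (a - 1) n ++ modList (mappingCone (𝟙 M)) (a - 1) n) (by
      intro X hX
      rcases List.mem_append.1 hX with h | h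
      · exact Pfp_of_mem_modList K hK hKp _ _ X h
      · exact Pfp_of_mem_modList _ hCM hCMp _ _ X h)
  refine ⟨f, hf, (extendCx R (Localization.Away f)).obj K,
    (extendCx R (Localization.Away f)).obj (mappingCone (𝟙 M)),
    trivial_extend K (a - 1) n hKv hKp hK f (fun X hX => hfree X (List.mem_append_left _ hX)),
    trivial_extend _ (a - 1) n hCMv hCMp hCM f
      (fun X hX => hfree X (List.mem_append_right _ hX)), ⟨?_⟩⟩
  have hpb : PreservesBinaryBiproducts (extendCx R (Localization.Away f)) :=
    preservesBinaryBiproducts_of_preservesBiproducts _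
  exact ((extendCx R (Localization.Away f)).mapBiprod M K).symm ≪≫
    (extendCx R (Localization.Away f)).mapIso Φ ≪≫
    (extendCx R (Localization.Away f)).mapBiprod N (mappingCone (𝟙 M))

end Main

end Groth.Agent.Lib.Helper2.StabIso
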