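import Mathlib

/-!
# Stable isomorphism of homotopy equivalent complexes

If `a : M ⟶ N` is a homotopy equivalence of cochain complexes in an abelian category, then
`N ⊞ cone(𝟙 M) ≅ M ⊞ K` for a contractible complex `K` which is a retract of `N ⊞ cone(𝟙 M)`.
-/

set_option autoImplicit false
universe v u
open CategoryTheory CategoryTheory.Limits

namespace Groth.Agent.Lib.Helper2.StabIso

open CochainComplex HomComplex

variable {C : Type u} [Category.{v} C] [Abelian C]

/-- The cone of the identity is contractible. -/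
lemma nonempty_homotopy_id_mappingCone_id (M : CochainComplex C ℤ) :
    Nonempty (Homotopy (𝟙 (mappingCone (𝟙 M))) 0) := by
  refine ⟨(Cochain.equivHomotopy _ _).symm
    ⟨(mappingCone.snd (𝟙 M)).comp (mappingCone.inl (𝟙 M)) (zero_add (-1)), ?_⟩⟩
  rw [δ_comp (mappingCone.snd (𝟙 M)) (mappingCone.inl (𝟙 M)) (zero_add (-1)) 1 0 0
    (neg_add_cancel 1) (zero_add 1) (neg_add_cancel 1), mappingCone.δ_inl, mappingCone.δ_snd]
  simp only [Category.id_comp, Cochain.ofHom_zero, add_zero, Cochain.neg_comp,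
    Int.negOnePow_neg, Int.negOnePow_one, Units.neg_smul, one_smul, neg_neg,
    Cochain.comp_id]
  rw [add_comm, ← mappingCone.id (𝟙 M)]

/-- A null-homotopic morphism out of `M` extends along `M ⟶ cone(𝟙 M)`. -/
lemma exists_desc_of_homotopy {M Z : CochainComplex C ℤ} (g : M ⟶ Z) (hg : Homotopy g 0) :
    ∃ e : mappingCone (𝟙 M) ⟶ Z, mappingCone.inr (𝟙 M) ≫ e = g :=
  ⟨mappingCone.desc (𝟙 M) (Cochain.ofHomotopy hg) g (by simp), by simp⟩

/-- Stable isomorphism: if `M` and `N` are homotopy equivalent, then `M ⊞ K ≅ N ⊞ cone(𝟙 M)`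
for a contractible retract `K` of `N ⊞ cone(𝟙 M)`. -/
theorem exists_stable_iso {M N : CochainComplex C ℤ} (e : HomotopyEquiv M N) :
    ∃ (K : CochainComplex C ℤ) (i : K ⟶ N ⊞ mappingCone (𝟙 M))
      (q : N ⊞ mappingCone (𝟙 M) ⟶ K),
      i ≫ q = 𝟙 K ∧ Nonempty (Homotopy (𝟙 K) 0) ∧
        Nonempty (M ⊞ K ≅ N ⊞ mappingCone (𝟙 M)) := by
  let Qh := HomotopyCategory.quotient C (ComplexShape.up ℤ)
  let ι : M ⟶ mappingCone (𝟙 M) := mappingCone.inr (𝟙 M)
  have h1 : Homotopy (𝟙 M - e.hom ≫ e.inv) 0 :=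
    Homotopy.equivSubZero e.homotopyHomInvId.symm
  obtain ⟨ε, hε⟩ := exists_desc_of_homotopy _ h1
  let f : M ⟶ N ⊞ mappingCone (𝟙 M) := biprod.lift e.hom ι
  let r : N ⊞ mappingCone (𝟙 M) ⟶ M := biprod.desc e.inv ε
  have f_r : f ≫ r = 𝟙 M := by
    simp only [f, r, biprod.lift_desc, ι, hε]
    abel
  let S := ShortComplex.mk f (cokernel.π f) (cokernel.condition f)
  have hS : S.Exact := ShortComplex.exact_cokernel f
  let sp : S.Splitting := ShortComplex.Splitting.ofExactOfRetraction S hS r f_r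
    (inferInstanceAs (Epi (cokernel.π f)))
  refine ⟨cokernel f, sp.s, cokernel.π f, sp.s_g, ?_, ⟨sp.isoBinaryBiproduct.symm⟩⟩
  rw [← HomotopyCategory.isZero_quotient_obj_iff, IsZero.iff_id_eq_zero,
    ← CategoryTheory.Functor.map_id]
  have hCM : IsZero (Qh.obj (mappingCone (𝟙 M))) :=
    (HomotopyCategory.isZero_quotient_obj_iff _).2 (nonempty_homotopy_id_mappingCone_id M)
  have h2 : Qh.map (biprod.inr ≫ cokernel.π f) = 0 := hCM.eq_of_src _ _
  have h3 : Qh.map (biprod.inl ≫ cokernel.π f) = 0 := by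
    have hiso : IsIso (Qh.map e.hom) :=
      ⟨Qh.map e.inv, by
        rw [← Functor.map_comp, HomotopyCategory.eq_of_homotopy _ _ e.homotopyHomInvId,
          CategoryTheory.Functor.map_id], by
        rw [← Functor.map_comp, HomotopyCategory.eq_of_homotopy _ _ e.homotopyInvHomId,
          CategoryTheory.Functor.map_id]⟩
    rw [← cancel_epi (Qh.map e.hom), comp_zero, ← Functor.map_comp]
    have h4 : ∀ {K : CochainComplex C ℤ} (π : N ⊞ mappingCone (𝟙 M) ⟶ K), f ≫ π = 0 →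
        e.hom ≫ biprod.inl ≫ π = -(ι ≫ biprod.inr ≫ π) := by
      intro K π h5
      rw [show f = e.hom ≫ biprod.inl + ι ≫ biprod.inr from biprod.lift_eq,
        Preadditive.add_comp, Category.assoc, Category.assoc] at h5
      exact eq_neg_of_add_eq_zero_left h5
    rw [h4 _ (cokernel.condition f), Functor.map_neg, Functor.map_comp, h2, comp_zero, neg_zero]
  obtain ⟨s', hs'⟩ : ∃ s' : cokernel f ⟶ N ⊞ mappingCone (𝟙 M), s' ≫ cokernel.π f = 𝟙 _ :=
    ⟨sp.s, sp.s_g⟩
  have h6 : 𝟙 (cokernel f) = (s' ≫ biprod.fst) ≫ (biprod.inl ≫ cokernel.π f) +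
      (s' ≫ biprod.snd) ≫ (biprod.inr ≫ cokernel.π f) := by
    rw [← hs']
    conv_lhs => rw [← Category.id_comp (cokernel.π f), ← biprod.total]
    simp only [Preadditive.add_comp, Preadditive.comp_add, Category.assoc]
  have h7 : Qh.map ((s' ≫ biprod.fst) ≫ (biprod.inl ≫ cokernel.π f)) = 0 :=
    (Qh.map_comp _ _).trans (by rw [h3, comp_zero])
  have h8 : Qh.map ((s' ≫ biprod.snd) ≫ (biprod.inr ≫ cokernel.π f)) = 0 :=
    (Qh.map_comp _ _).trans (by rw [h2, comp_zero])
  rw [h6, Functor.map_add, h7, h8, add_zero]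

end Groth.Agent.Lib.Helper2.StabIso
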